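import Groth.Agent.L01.TorLES
import Groth.Agent.S1740
import Mathlib.Algebra.Homology.HomologySequenceLemmas
import Mathlib.Algebra.Homology.DerivedCategory.Ext.EnoughProjectives
import Mathlib.Algebra.Homology.DerivedCategory.Ext.ExactSequences
import Mathlib.LinearAlgebra.Finsupp.LinearCombination

/-! For a map `α : M ⟶ M'` with `M` finite over a Noetherian ring, `Ext^{e+1}(α) = 0` for all second
arguments iff `Tor_{e+1}(α) = 0` for all second arguments. -/

set_option autoImplicit false

universe u

open CategoryTheory CategoryTheory.Limits Abelian MonoidalCategory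

namespace Groth.L04.ExtTor

noncomputable section

variable {R : Type u} [CommRing R]

/-- `Ext^n(α, N) = 0` for all `N`. -/
def ExtZero {M M' : ModuleCat.{u} R} (α : M ⟶ M') (n : ℕ) : Prop :=
  ∀ (N : ModuleCat.{u} R) (x : Ext M' N n), (Ext.mk₀ α).comp x (zero_add n) = 0

/-- `Tor_n(α, N) = 0` for all `N`. -/
def TorZero {M M' : ModuleCat.{u} R} (α : M ⟶ M') (n : ℕ) : Prop :=
  ∀ N : ModuleCat.{u} R, ((Tor (ModuleCat.{u} R) n).map α).app N = 0

/-- `M ↦ H_n(M ⊗ Q)` for the chosen resolution `Q` of `N`. -/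
abbrev TH (N : ModuleCat.{u} R) (n : ℕ) : ModuleCat.{u} R ⥤ ModuleCat.{u} R :=
  Groth.L01.TorLES.cx (projectiveResolution N).complex ⋙
    HomologicalComplex.homologyFunctor (ModuleCat.{u} R) (ComplexShape.down ℕ) n

theorem torZero_iff {M M' : ModuleCat.{u} R} (α : M ⟶ M') (n : ℕ) :
    TorZero α n ↔ ∀ N, (TH N n).map α = 0 := by
  refine forall_congr' fun N => ?_
  obtain ⟨e⟩ := Groth.L01.TorLES.nonempty_flip_iso (projectiveResolution N) n
  have h : ((Tor (ModuleCat.{u} R) n).map α).app N ≫ e.hom.app M' = e.hom.app M ≫ (TH N n).map α :=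
    e.hom.naturality α
  constructor
  · intro h0
    rw [h0, zero_comp] at h
    exact (cancel_epi (e.hom.app M)).1 (h.symm.trans comp_zero.symm)
  · intro h0
    rw [h0, comp_zero] at h
    exact (cancel_mono (e.hom.app M')).1 (h.trans zero_comp.symm)

theorem isZero_TH_projective (P N : ModuleCat.{u} R) [Projective P] (n : ℕ) :
    IsZero ((TH N (n + 1)).obj P) := by
  obtain ⟨e⟩ := Groth.L01.TorLES.nonempty_flip_iso (projectiveResolution N) (n + 1)
  obtain ⟨f⟩ := Groth.Agent.S6316.result R (n + 1)
  refine IsZero.of_iso ?_ (e.app P).symm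
  refine IsZero.of_iso ?_ ((f.app P).app N)
  exact Functor.isZero_leftDerived_obj_projective_succ _ n P

theorem mapsZero_iff_of_ses {S S' : ShortComplex (ModuleCat.{u} R)} (hS : S.ShortExact)
    (hS' : S'.ShortExact) (φ : S ⟶ S') [Projective S.X₂] [Projective S'.X₂] (n : ℕ) :
    (TorZero φ.τ₃ (n + 2) ↔ TorZero φ.τ₁ (n + 1)) ∧
      (ExtZero φ.τ₃ (n + 2) ↔ ExtZero φ.τ₁ (n + 1)) := by
  constructor
  · rw [torZero_iff, torZero_iff]
    refine forall_congr' fun N => ?_
    let F := Groth.L01.TorLES.cx (projectiveResolution N).complex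
    have h := Groth.L01.TorLES.shortExact_cx (projectiveResolution N).complex
      (Groth.L01.TorLES.flat_complex _) hS
    have h' := Groth.L01.TorLES.shortExact_cx (projectiveResolution N).complex
      (Groth.L01.TorLES.flat_complex _) hS'
    have hnat : h.δ (n + 2) (n + 1) rfl ≫ (TH N (n + 1)).map φ.τ₁ =
        (TH N (n + 2)).map φ.τ₃ ≫ h'.δ (n + 2) (n + 1) rfl :=
      HomologicalComplex.HomologySequence.δ_naturality (F.mapShortComplex.map φ) h h' (n + 2) (n + 1) rfl
    haveI : Epi (h.δ (n + 2) (n + 1) rfl) :=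
      (h.homology_exact₁ (n + 2) (n + 1) rfl).epi_f
        ((isZero_TH_projective S.X₂ N n).eq_of_tgt _ _)
    haveI : Mono (h'.δ (n + 2) (n + 1) rfl) :=
      (h'.homology_exact₃ (n + 2) (n + 1) rfl).mono_g
        ((isZero_TH_projective S'.X₂ N (n + 1)).eq_of_src _ _)
    constructor
    · intro h0
      rw [h0, zero_comp] at hnat
      exact (cancel_epi (h.δ (n + 2) (n + 1) rfl)).1 (hnat.trans comp_zero.symm)
    · intro h0
      exact (cancel_mono (h'.δ (n + 2) (n + 1) rfl)).1
        (hnat.symm.trans ((congrArg (h.δ (n + 2) (n + 1) rfl ≫ ·) h0).trans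
          (comp_zero.trans zero_comp.symm)))
  · refine forall_congr' fun N => ?_
    have key : ∀ y : Ext S'.X₁ N (n + 1), (Ext.mk₀ φ.τ₃).comp
        (hS'.extClass.comp y (show 1 + (n + 1) = n + 2 by omega)) (zero_add _) =
        hS.extClass.comp ((Ext.mk₀ φ.τ₁).comp y (zero_add _)) (show 1 + (n + 1) = n + 2 by omega) := by
      intro y
      have hc := congrArg (fun z => z.comp y (show 1 + (n + 1) = n + 2 by omega))
        (ShortComplex.ShortExact.extClass_naturality hS hS' φ)
      rw [Ext.comp_assoc_of_second_deg_zero, Ext.comp_assoc _ _ _ (zero_add 1)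
        (show 1 + (n + 1) = n + 2 by omega) (by omega)] at hc
      exact hc.symm
    constructor
    · intro h0 y
      obtain ⟨x, hx⟩ := Ext.contravariant_sequence_exact₁ hS N ((Ext.mk₀ φ.τ₁).comp y (zero_add _))
        (show 1 + (n + 1) = n + 2 by omega) (by rw [← key, h0])
      rw [← hx, Ext.eq_zero_of_projective x, Ext.comp_zero]
    · intro h0 x
      obtain ⟨y, rfl⟩ := Ext.contravariant_sequence_exact₃ hS' N x (Ext.eq_zero_of_projective _)
        (show 1 + (n + 1) = n + 2 by omega)
      rw [key, h0, Ext.comp_zero]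

theorem zero_of_factor {M F M' : ModuleCat.{u} R} [Projective F] (g : M ⟶ F) (h : F ⟶ M') :
    ExtZero (g ≫ h) 1 ∧ TorZero (g ≫ h) 1 := by
  refine ⟨fun N x => ?_, (torZero_iff _ _).2 fun N => ?_⟩
  · rw [← Ext.mk₀_comp_mk₀, Ext.comp_assoc_of_second_deg_zero,
      Ext.eq_zero_of_projective ((Ext.mk₀ h).comp x (zero_add 1)), Ext.comp_zero]
  · rw [Functor.map_comp, (isZero_TH_projective F N 0).eq_of_tgt ((TH N 1).map g) 0, zero_comp]

theorem projective_finsupp (X : Type u) : Projective (ModuleCat.of R (X →₀ R)) :=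
  (IsProjective.iff_projective (R := R) (X →₀ R)).1 inferInstance

theorem linearCombination_id_surjective (M : ModuleCat.{u} R) :
    Function.Surjective (Finsupp.linearCombination R (id : M → M)) :=
  fun m => ⟨Finsupp.single m 1, by simp⟩

/-- The canonical presentation by a free module. -/
def coverSES (M : ModuleCat.{u} R) : ShortComplex (ModuleCat.{u} R) :=
  ShortComplex.mk (kernel.ι (ModuleCat.ofHom (Finsupp.linearCombination R (id : M → M))))
    (ModuleCat.ofHom (Finsupp.linearCombination R (id : M → M))) (kernel.condition _)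

theorem shortExact_coverSES (M : ModuleCat.{u} R) : (coverSES M).ShortExact :=
  { exact := ShortComplex.exact_of_f_is_kernel _ (kernelIsKernel _)
    mono_f := inferInstanceAs (Mono (kernel.ι _))
    epi_g := (ModuleCat.epi_iff_surjective _).2 (linearCombination_id_surjective M) }

instance projective_coverSES (M : ModuleCat.{u} R) : Projective (coverSES M).X₂ :=
  projective_finsupp M

theorem base [IsNoetherianRing R] {M M' : ModuleCat.{u} R} [Module.Finite R M] (α : M ⟶ M') :
    ExtZero α 1 ↔ TorZero α 1 := by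
  constructor
  · intro h
    obtain ⟨x, hx⟩ := Ext.covariant_sequence_exact₃ M (shortExact_coverSES M') (Ext.mk₀ α)
      (zero_add 1) (h _ _)
    obtain ⟨g, rfl⟩ := Ext.homEquiv₀.symm.surjective x
    rw [Ext.homEquiv₀_symm_apply, Ext.mk₀_comp_mk₀] at hx
    rw [← (Ext.mk₀_bijective _ _).1 hx]
    exact (zero_of_factor g (coverSES M').g).2
  · intro h
    haveI : Module.FinitePresentation R M := Module.finitePresentation_of_finite R M
    obtain ⟨ι, g, k, hgk⟩ := Groth.Agent.S1740.result R M M' α.hom (fun N _ _ => h (ModuleCat.of R N))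
    haveI := projective_finsupp (R := R) ι
    rw [show α = ModuleCat.ofHom g ≫ ModuleCat.ofHom k from ModuleCat.hom_ext hgk]
    exact (zero_of_factor _ _).1

theorem extZero_iff_torZero [IsNoetherianRing R] : ∀ (e : ℕ) {M M' : ModuleCat.{u} R}
    [Module.Finite R M] (α : M ⟶ M'), ExtZero α (e + 1) ↔ TorZero α (e + 1) := by
  intro e
  induction e with
  | zero => exact fun α => base α
  | succ e ih =>
    intro M M' _ α
    obtain ⟨n, p, hp⟩ := Module.Finite.exists_fin' R M
    let S : ShortComplex (ModuleCat.{u} R) :=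
      ShortComplex.mk (kernel.ι (ModuleCat.ofHom p)) (ModuleCat.ofHom p) (kernel.condition _)
    have hS : S.ShortExact :=
      { exact := ShortComplex.exact_of_f_is_kernel _ (kernelIsKernel _)
        mono_f := inferInstanceAs (Mono (kernel.ι _))
        epi_g := (ModuleCat.epi_iff_surjective _).2 hp }
    haveI : Projective S.X₂ := (IsProjective.iff_projective (R := R) (Fin n → R)).1 inferInstance
    have hS' := shortExact_coverSES M'
    haveI : Epi (coverSES M').g := hS'.epi_g
    haveI : Mono (coverSES M').f := hS'.mono_f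
    let u : S.X₂ ⟶ (coverSES M').X₃ := S.g ≫ α
    let t₂ : S.X₂ ⟶ (coverSES M').X₂ := Projective.factorThru u (coverSES M').g
    have ht₂ : t₂ ≫ (coverSES M').g = S.g ≫ α := Projective.factorThru_comp _ _
    let t₁ : S.X₁ ⟶ (coverSES M').X₁ := hS'.exact.lift (S.f ≫ t₂)
      ((Category.assoc _ _ _).trans ((congrArg (S.f ≫ ·) ht₂).trans ((Category.assoc _ _ _).symm.trans
        ((congrArg (· ≫ α) S.zero).trans zero_comp))))
    let φ : S ⟶ coverSES M' :=
      { τ₁ := t₁, τ₂ := t₂, τ₃ := α
        comm₁₂ := hS'.exact.lift_f _ _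
        comm₂₃ := ht₂ }
    haveI : Module.Finite R S.X₁ :=
      Module.Finite.of_injective S.f.hom hS.moduleCat_injective_f
    obtain ⟨ht, he⟩ := mapsZero_iff_of_ses hS hS' φ e
    exact he.trans ((ih φ.τ₁).trans ht.symm)

end

end Groth.L04.ExtTor
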